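import Mathlib

/-!
# A criterion for a subgroup to contain the centraliser of a set of involutions

`H` contains the centralisers of the members of a conjugation-invariant set `Z` of involutions
that lie in it, and no element outside `H` moves such a member into `H`.  A set `E` is *pinned* if
its centraliser lies in `H`.  If two members `u₁`, `u₂` of `Z` centralising `E` are such that every
larger set arising from a commuting involution `w` is pinned, then `E` is pinned unless some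
candidates of the two members are conjugate in the centraliser of `E`.
-/

set_option autoImplicit false

namespace CfsgLib.InvolEndgame

variable {G : Type*} [Group G]

/-- The hypotheses on the subgroup and the set of involutions. -/
structure Setting (H : Subgroup G) (Z : Set G) : Prop where
  invol : ∀ u ∈ Z, u * u = 1
  ne_one : ∀ u ∈ Z, u ≠ 1
  conj_mem : ∀ u ∈ Z, ∀ g : G, g * u * g⁻¹ ∈ Z
  mem_of_conj : ∀ u ∈ Z, u ∈ H → ∀ g : G, g * u * g⁻¹ ∈ H → g ∈ H

/-- The centraliser of `E` lies in `H`. -/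
def Pinned (H : Subgroup G) (E : Set G) : Prop := ∀ g : G, (∀ e ∈ E, Commute g e) → g ∈ H

namespace Setting

variable {H : Subgroup G} {Z : Set G}

theorem mem_of_commute (S : Setting H Z) {u g : G} (hu : u ∈ Z) (huH : u ∈ H)
    (h : Commute g u) : g ∈ H :=
  S.mem_of_conj u hu huH g (by rw [h.eq, mul_inv_cancel_right]; exact huH)

theorem pinned_of_mem (S : Setting H Z) {E : Set G} {x : G}
    (hx : ∀ g : G, (∀ e ∈ E, Commute g e) → Commute g x) (hxZ : x ∈ Z) (hxH : x ∈ H) :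
    Pinned H E :=
  fun g hg => S.mem_of_commute hxZ hxH (hx g hg)

theorem pinned_pair (S : Setting H Z) {E : Set G} {e₁ e₂ : G} (h₁ : e₁ ∈ E) (h₂ : e₂ ∈ E)
    (hZ : e₁ * e₂ ∈ Z) (hH : e₁ * e₂ ∈ H) : Pinned H E :=
  S.pinned_of_mem (fun g hg => (hg e₁ h₁).mul_right (hg e₂ h₂)) hZ hH

/-- The candidates of `u`: the members of `Z` in `H` whose product with `u` is a nontrivial
`2`-element, centralising `E`, whose involution lies in `E`, and `u` itself. -/
def Cand (H : Subgroup G) (Z : Set G) (E : Set G) (u y : G) : Prop :=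
  y = u ∨ (y ∈ Z ∧ y ∈ H ∧ (∀ e ∈ E, Commute y e) ∧
    ∃ k : ℕ, (u * y) ^ 2 ^ (k + 1) = 1 ∧ (u * y) ^ 2 ^ k ∈ E ∧ (u * y) ^ 2 ^ k ≠ 1 ∧
      u * (u * y) ^ 2 ^ k ∈ Z)

theorem exists_cand [Finite G] (S : Setting H Z) {E : Set G}
    {u v : G} (hu : u ∈ Z) (huH : u ∈ H) (huE : ∀ e ∈ E, Commute u e)
    (hv : v ∈ Z) (hvH : v ∉ H) (hvE : ∀ e ∈ E, Commute v e)
    (hw : ∀ w ∈ H, w * w = 1 → w ≠ 1 → Commute w u → (∀ e ∈ E, Commute w e) → u * w ∈ Z →
      w ∉ E → Pinned H (insert w E)) :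
    ∃ y l : G, Cand H Z E u y ∧ (∀ e ∈ E, Commute l e) ∧ l * y * l⁻¹ = v := by
  have huu := S.invol u hu
  have hvv := S.invol v hv
  have hui : u⁻¹ = u := inv_eq_of_mul_eq_one_left huu
  have hvi : v⁻¹ = v := inv_eq_of_mul_eq_one_left hvv
  set s := u * v with hs
  have hus : ∀ j : ℕ, u * s ^ j * u = (s ^ j)⁻¹ := by
    intro j
    have h1 : u * s * u⁻¹ = s⁻¹ := by rw [hs, mul_inv_rev, hvi, hui, ← mul_assoc, huu, one_mul]
    have h2 := congrArg (· ^ j) h1
    simp only [conj_pow, inv_pow] at h2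
    rwa [hui] at h2
  have hsE : ∀ (e : G), e ∈ E → ∀ j : ℕ, Commute (s ^ j) e := fun e he j =>
    ((huE e he).mul_left (hvE e he)).pow_left j
  have hconj : ∀ a : ℕ, s ^ a * u * (s ^ a)⁻¹ = s ^ a * s ^ a * u := by
    intro a
    have h := hus a
    calc s ^ a * u * (s ^ a)⁻¹ = s ^ a * u * (u * s ^ a * u) := by rw [h]
      _ = s ^ a * (u * u) * s ^ a * u := by simp only [mul_assoc]
      _ = _ := by rw [huu, mul_one]
  obtain ⟨k, q, hq, hn⟩ := Nat.exists_eq_two_pow_mul_odd (orderOf_pos s).ne'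
  have hord : s ^ (2 ^ k * q) = 1 := by rw [← hn]; exact pow_orderOf_eq_one s
  obtain ⟨q', hq'⟩ := hq
  rcases k with _ | k
  · refine ⟨u, s ^ q', Or.inl rfl, fun e he => hsE e he _, ?_⟩
    have h1 : s ^ q' * s ^ q' * s = 1 := by
      rw [← pow_add, ← pow_succ]; rwa [show q' + q' + 1 = 2 ^ 0 * q by omega]
    have hv' : v = u * s := by rw [hs, ← mul_assoc, huu, one_mul]
    rw [hconj, eq_inv_of_mul_eq_one_left h1, hv']
    have h := hus 1
    rw [pow_one] at h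
    rw [← h, mul_assoc, huu, mul_one]
  set x := s ^ q with hx
  set w := x ^ 2 ^ k with hwdef
  have hxs : ∀ j : ℕ, x ^ j = s ^ (q * j) := fun j => by rw [hx, ← pow_mul]
  have hw2 : x ^ 2 ^ (k + 1) = 1 := by rw [hxs, mul_comm]; exact hord
  have hww : w * w = 1 := by
    rw [hwdef, ← pow_add, show 2 ^ k + 2 ^ k = 2 ^ (k + 1) by ring]; exact hw2
  have hw1 : w ≠ 1 := by
    rw [hwdef, hxs]
    intro h
    have hd := orderOf_dvd_of_pow_eq_one h
    rw [hn] at hd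
    have hpos : 0 < q * 2 ^ k := Nat.mul_pos (by omega) (Nat.two_pow_pos _)
    have := Nat.le_of_dvd hpos hd
    rw [pow_succ] at this
    nlinarith [Nat.two_pow_pos k]
  have hwinv : w⁻¹ = w := inv_eq_of_mul_eq_one_left hww
  have hwu : Commute w u := by
    have h := hus (q * 2 ^ k)
    rw [← hxs, ← hwdef, hwinv] at h
    calc w * u = u * w * u * u := by rw [h]
      _ = u * w := by rw [mul_assoc, huu, mul_one]
  have hwH : w ∈ H := S.mem_of_commute hu huH hwu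
  have hwE' : ∀ e ∈ E, Commute w e := fun e he => by rw [hwdef, hxs]; exact hsE e he _
  have hwv : Commute v w := by
    have hsw : Commute s w := by rw [hwdef, hxs]; exact (Commute.refl s).pow_right _
    have hv' : v = u * s := by rw [hs, ← mul_assoc, huu, one_mul]
    rw [hv']
    exact hwu.symm.mul_left hsw
  have hexp : ∃ a p : ℕ, q * a = 1 + 2 ^ (k + 1) * p := by
    have hc : Nat.Coprime q (2 ^ (k + 1)) :=
      Nat.Coprime.pow_right _ ((Nat.coprime_two_right).2 ⟨q', hq'⟩)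
    rcases Nat.eq_or_lt_of_le (show 1 ≤ 2 ^ (k + 1) from Nat.one_le_two_pow) with h | h
    · exact absurd h (by rw [pow_succ]; have := Nat.two_pow_pos k; omega)
    obtain ⟨a, ha⟩ := Nat.exists_mul_mod_eq_one_of_coprime hc h
    refine ⟨a, q * a / 2 ^ (k + 1), ?_⟩
    have := Nat.div_add_mod (q * a) (2 ^ (k + 1))
    rw [ha.2] at this
    omega
  obtain ⟨a, p, hap⟩ := hexp
  have hpow : (u * (u * x ^ a)) = x ^ a := by rw [← mul_assoc, huu, one_mul]
  -- the power `x ^ a` has the same involution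
  have hxa : (x ^ a) ^ 2 ^ k = w := by
    have hodd : Odd a := by
      have : Odd (q * a) := by rw [hap, pow_succ]; exact ⟨2 ^ k * p, by ring⟩
      exact (Nat.odd_mul.1 this).2
    obtain ⟨a', rfl⟩ := hodd
    rw [← pow_mul, show (2 * a' + 1) * 2 ^ k = 2 ^ (k + 1) * a' + 2 ^ k by ring, pow_add, pow_mul,
      hw2, one_pow, one_mul]
  -- `y = u * x ^ a` is conjugate to `v`
  obtain ⟨b, hb⟩ : ∃ b : ℕ, s ^ b * (u * x ^ a) * (s ^ b)⁻¹ = v := by
    have hsq : ∃ b, (s ^ (2 ^ (k + 1))) ^ b * (s ^ (2 ^ (k + 1))) ^ b = s ^ (2 ^ (k + 1) * p) := by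
      refine ⟨p * (q' + 1), ?_⟩
      have h1 : (s ^ 2 ^ (k + 1)) ^ q = 1 := by rw [← pow_mul]; exact hord
      rw [← pow_add, show p * (q' + 1) + p * (q' + 1) = q * p + p by rw [hq']; ring, pow_add,
        pow_mul, h1, one_pow, one_mul, ← pow_mul]
    obtain ⟨b, hb⟩ := hsq
    refine ⟨2 ^ (k + 1) * b, ?_⟩
    have hc : Commute (x ^ a) ((s ^ (2 ^ (k + 1) * b))⁻¹) := by
      rw [hxs]; exact (((Commute.refl s).pow_left _).pow_right _).inv_right
    rw [mul_assoc, mul_assoc u, hc.eq, ← mul_assoc, ← mul_assoc, hconj]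
    have h2 : s ^ (2 ^ (k + 1) * b) * s ^ (2 ^ (k + 1) * b) = s ^ (2 ^ (k + 1) * p) := by
      rw [← hb, pow_mul]
    rw [h2, hxs]
    have h3 := hus (2 ^ (k + 1) * p)
    have h4 : s ^ (2 ^ (k + 1) * p) * u = u * (s ^ (2 ^ (k + 1) * p))⁻¹ := by
      rw [← h3, ← mul_assoc, ← mul_assoc, huu, one_mul]
    rw [h4, mul_assoc, show q * a = 2 ^ (k + 1) * p + 1 by omega, pow_succ s, inv_mul_cancel_left,
      hs, ← mul_assoc, huu, one_mul]
  set y := u * x ^ a with hy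
  have hyZ : y ∈ Z := by
    have h := S.conj_mem v hv (s ^ b)⁻¹
    rw [← hb] at h
    simpa only [mul_assoc, inv_mul_cancel_left, inv_inv, inv_mul_cancel, mul_one] using h
  have huw : u * w ∈ Z := by
    rcases k with _ | k'
    · have : x ^ a = w := by rw [← hxa, pow_zero, pow_one]
      rwa [hy, this] at hyZ
    · have h := hconj (q * 2 ^ k')
      rw [← pow_add, show q * 2 ^ k' + q * 2 ^ k' = q * 2 ^ (k' + 1) by ring, ← hxs, ← hxs,
        ← hwdef, hwu.eq] at h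
      rw [← h]
      exact S.conj_mem u hu _
  have hwE : w ∈ E := by
    by_contra hne
    refine hvH (hw w hwH hww hw1 hwu hwE' huw hne v ?_)
    rintro e (rfl | he)
    · exact hwv
    · exact hvE e he
  have hxH : ∀ i : ℕ, i ≤ k → x ^ 2 ^ (k - i) ∈ H := by
    intro i
    induction i with
    | zero => intro _; rw [Nat.sub_zero, ← hwdef]; exact hwH
    | succ i ih =>
      intro hi
      refine S.mem_of_conj u hu huH _ ?_
      rw [hxs, hconj, ← pow_add,
        show q * 2 ^ (k - (i + 1)) + q * 2 ^ (k - (i + 1)) = q * 2 ^ (k - i) by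
          rw [show k - i = k - (i + 1) + 1 by omega, pow_succ]; ring, ← hxs]
      exact mul_mem (ih (by omega)) huH
  have hxH' : x ∈ H := by simpa using hxH k le_rfl
  refine ⟨y, s ^ b, Or.inr ⟨hyZ, mul_mem huH (pow_mem hxH' a), fun e he => ?_, k, ?_, ?_, ?_, ?_⟩,
    fun e he => hsE e he b, hb⟩
  · rw [hy, hxs]; exact (huE e he).mul_left (hsE e he _)
  · rw [hpow, ← pow_mul, mul_comm, pow_mul, hw2, one_pow]
  · rw [hpow, hxa]; exact hwE
  · rw [hpow, hxa]; exact hw1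
  · rw [hpow, hxa]; exact huw

/-- The descent step. -/
theorem pinned_of_pair [Finite G] (S : Setting H Z) {E : Set G} {u₁ u₂ : G}
    (h1 : u₁ ∈ Z) (h1H : u₁ ∈ H) (h1E : ∀ e ∈ E, Commute u₁ e)
    (h2 : u₂ ∈ Z) (h2H : u₂ ∈ H) (h2E : ∀ e ∈ E, Commute u₂ e)
    (hw1 : ∀ w ∈ H, w * w = 1 → w ≠ 1 → Commute w u₁ → (∀ e ∈ E, Commute w e) → u₁ * w ∈ Z →
      w ∉ E → Pinned H (insert w E))
    (hw2 : ∀ w ∈ H, w * w = 1 → w ≠ 1 → Commute w u₂ → (∀ e ∈ E, Commute w e) → u₂ * w ∈ Z →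
      w ∉ E → Pinned H (insert w E))
    (hdisj : ∀ y₁ y₂ : G, Cand H Z E u₁ y₁ → Cand H Z E u₂ y₂ →
      ∀ g ∈ H, (∀ e ∈ E, Commute g e) → g * y₁ * g⁻¹ ≠ y₂) :
    Pinned H E := by
  intro g hg
  by_contra hgH
  have hvH : g * u₁ * g⁻¹ ∉ H := fun h => hgH (S.mem_of_conj u₁ h1 h1H g h)
  have hvE : ∀ e ∈ E, Commute (g * u₁ * g⁻¹) e := fun e he =>
    ((hg e he).mul_left (h1E e he)).mul_left (hg e he).inv_left
  obtain ⟨y₁, l₁, c1, hl1, e1⟩ := S.exists_cand h1 h1H h1E (S.conj_mem _ h1 g) hvH hvE hw1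
  obtain ⟨y₂, l₂, c2, hl2, e2⟩ := S.exists_cand h2 h2H h2E (S.conj_mem _ h1 g) hvH hvE hw2
  have hy : l₂⁻¹ * l₁ * y₁ * (l₂⁻¹ * l₁)⁻¹ = y₂ := by
    calc l₂⁻¹ * l₁ * y₁ * (l₂⁻¹ * l₁)⁻¹ = l₂⁻¹ * (l₁ * y₁ * l₁⁻¹) * l₂ := by group
      _ = l₂⁻¹ * (l₂ * y₂ * l₂⁻¹) * l₂ := by rw [e1, e2]
      _ = y₂ := by group
  have hy1 : y₁ ∈ Z ∧ y₁ ∈ H := by
    rcases c1 with rfl | ⟨a, b, -⟩
    · exact ⟨h1, h1H⟩
    · exact ⟨a, b⟩
  have hy2 : y₂ ∈ H := by
    rcases c2 with rfl | ⟨-, b, -⟩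
    · exact h2H
    · exact b
  exact hdisj y₁ y₂ c1 c2 _ (S.mem_of_conj y₁ hy1.1 hy1.2 _ (by rw [hy]; exact hy2))
    (fun e he => (hl2 e he).inv_left.mul_left (hl1 e he)) hy

/-- The setting of a class meeting `H` in one class of `H`, with a centraliser inside `H`. -/
theorem of_centralizer {z : G} (hz : z * z = 1) (hz1 : z ≠ 1)
    (hC : ∀ g : G, Commute g z → g ∈ H)
    (hfus : ∀ g : G, g * z * g⁻¹ ∈ H → ∃ h ∈ H, h * z * h⁻¹ = g * z * g⁻¹) :
    Setting H {u | ∃ g : G, g * z * g⁻¹ = u} where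
  invol := by
    rintro _ ⟨g, rfl⟩
    calc g * z * g⁻¹ * (g * z * g⁻¹) = g * (z * z) * g⁻¹ := by group
      _ = 1 := by rw [hz, mul_one, mul_inv_cancel]
  ne_one := by
    rintro _ ⟨g, rfl⟩ h
    exact hz1 (conj_eq_one_iff.1 h)
  conj_mem := by
    rintro _ ⟨g, rfl⟩ k
    exact ⟨k * g, by group⟩
  mem_of_conj := by
    rintro _ ⟨g, rfl⟩ hu k hk
    obtain ⟨a, ha, ea⟩ := hfus g hu
    obtain ⟨b, hb, eb⟩ := hfus (k * g) (by
      rwa [mul_inv_rev, show k * g * z * (g⁻¹ * k⁻¹) = k * (g * z * g⁻¹) * k⁻¹ by group])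
    have ha' : a⁻¹ * g ∈ H := hC _ (by
      show _ = _
      calc a⁻¹ * g * z = a⁻¹ * (g * z * g⁻¹) * g := by group
        _ = a⁻¹ * (a * z * a⁻¹) * g := by rw [ea]
        _ = _ := by group)
    have hb' : b⁻¹ * (k * g) ∈ H := hC _ (by
      show _ = _
      calc b⁻¹ * (k * g) * z = b⁻¹ * (k * g * z * (k * g)⁻¹) * (k * g) := by group
        _ = b⁻¹ * (b * z * b⁻¹) * (k * g) := by rw [eb]
        _ = _ := by group)
    have h := mul_mem (mul_mem hb hb') (inv_mem (mul_mem ha ha'))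
    simpa [mul_assoc] using h

end Setting

end CfsgLib.InvolEndgame
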