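import Cfsg.Agent.M24Classes.Table

/-!
The checks on tables for the descent to the centraliser of a fixed-point-free involution of M24.
-/

set_option autoImplicit false

namespace CfsgLib.InvolEndgame.MTwentyFour

open CfsgLib.Mathieu CfsgLib.M24Classes

/-- The tree of the descent. -/
inductive Cert
  | leaf
  | node (u₁ u₂ : ℕ) (k₁ k₂ : List Cert)

/-- The two tables agree on the points. -/
def sameTab (a b : ℕ) : Bool := allBelow 24 fun i => app a i == app b i

/-- The two tables commute on the points. -/
def comTab (a b : ℕ) : Bool := allBelow 24 fun i => app a (app b i) == app b (app a i)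

/-- The table squares to the identity. -/
def sqOne (a : ℕ) : Bool := allBelow 24 fun i => app a (app a i) == i

/-- The table is an involution with eight fixed points. -/
def zTab (a : ℕ) : Bool :=
  sqOne a && ((List.range 24).filter fun i => app a i == i).length == 8

/-- Some iterated square of `q` is a member of `E` whose product with `u` has eight fixed points. -/
def candLoop (E : List ℕ) (u : ℕ) : ℕ → ℕ → Bool
  | 0, _ => false
  | n + 1, q => (E.any (sameTab q) && zTab (comp u q)) || candLoop E u n (comp q q)

/-- The membership pattern of a candidate. -/
def zMask (E : List ℕ) (y : ℕ) : List Bool := E.map fun e => zTab (comp y e)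

/-- The patterns of the candidates of `u`. -/
def sideMasks (E Zk : List ℕ) (u : ℕ) : List (List Bool) :=
  zMask E u :: (Zk.filter fun y => candLoop E u 10 (comp u y)).map (zMask E)

/-- The extensions of `E` along `u`. -/
def extList (E I : List ℕ) (u : ℕ) : List ℕ :=
  I.filter fun w => comTab w u && zTab (comp u w) && !E.any (sameTab w)

/-- The group generated by `E` and `w`, without the identity. -/
def extSet (E : List ℕ) (w : ℕ) : List ℕ := E ++ w :: E.map fun e => comp e w

/-- The check of a member used for branching. -/
def okBranch (E : List ℕ) (u : ℕ) : Bool := isM24Tab u && zTab u && E.all (comTab u)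

/-- The check of a tree. -/
def checkCert : ℕ → Cert → List ℕ → List ℕ → List ℕ → Bool
  | _, .leaf, E, _, _ => E.any zTab
  | 0, .node _ _ _ _, _, _, _ => false
  | n + 1, .node u₁ u₂ k₁ k₂, E, Zk, I =>
    okBranch E u₁ && okBranch E u₂ &&
      (sideMasks E Zk u₁).all (fun P => !(sideMasks E Zk u₂).contains P) &&
      ((extList E I u₁).length == k₁.length) && ((extList E I u₂).length == k₂.length) &&
      ((extList E I u₁).zip k₁).all (fun p => checkCert n p.2 (extSet E p.1)
        (Zk.filter (comTab p.1)) (I.filter (comTab p.1))) &&
      ((extList E I u₂).zip k₂).all (fun p => checkCert n p.2 (extSet E p.1)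
        (Zk.filter (comTab p.1)) (I.filter (comTab p.1)))

end CfsgLib.InvolEndgame.MTwentyFour
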