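import Cfsg.Agent.InvolEndgame.Basic
import Cfsg.Agent.InvolEndgame.MTwentyFourDefs
import Cfsg.Agent.M24Classes.CentInvFree

/-!
What the checks on tables say about the members of M24.
-/

set_option autoImplicit false

namespace CfsgLib.InvolEndgame.MTwentyFour

open Cfsg CfsgLib.Mathieu CfsgLib.M24Classes

/-- The member of M24 of a table. -/
noncomputable def elM (t : ℕ) : ↥M24 := by
  classical exact if h : InGroup enc M24 t then ⟨h.choose, h.choose_spec.1⟩ else 1

theorem elM_rep {t : ℕ} (h : InGroup enc M24 t) : Rep enc (elM t).1 t := by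
  rw [elM, dif_pos h]; exact h.choose_spec.2

theorem inGroup_of_rep {σ : ↥M24} {t : ℕ} (h : Rep enc σ.1 t) : InGroup enc M24 t := ⟨σ.1, σ.2, h⟩

theorem elM_eq {σ : ↥M24} {t : ℕ} (h : Rep enc σ.1 t) : elM t = σ :=
  Subtype.ext (M24Classes.rep_unique (elM_rep (inGroup_of_rep h)) h)

theorem rep_comp' {σ τ : ↥M24} {a b : ℕ} (ha : Rep enc σ.1 a) (hb : Rep enc τ.1 b) :
    Rep enc (σ * τ).1 (comp a b) := rep_comp ha hb

variable {σ τ : ↥M24} {a b : ℕ} (ha : Rep enc σ.1 a) (hb : Rep enc τ.1 b)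

section
include ha

theorem sqOne_iff : sqOne a = true ↔ σ * σ = 1 := by
  simp only [sqOne, allBelow_iff, beq_iff_eq]
  constructor
  · intro h
    refine Subtype.ext (Equiv.ext fun p => enc.injective (Fin.ext ?_))
    have := h _ (enc p).isLt
    rw [ha p, ha (σ.1 p)] at this
    exact this
  · intro h i hi
    obtain ⟨p, rfl⟩ : ∃ p, (enc p).val = i := ⟨enc.symm ⟨i, hi⟩, by rw [Equiv.apply_symm_apply]⟩
    rw [ha p, ha (σ.1 p)]
    exact congrArg (fun x => (enc x).val) (Equiv.Perm.ext_iff.1 (congrArg Subtype.val h) p)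

theorem fixLength : ((List.range 24).filter fun i => app a i == i).length = fixCount σ.1 := by
  rw [← List.toFinset_card_of_nodup (List.nodup_range.filter _), fixCount]
  symm
  refine Finset.card_bij (fun p _ => (enc p).val) (fun p hp => ?_)
    (fun p _ q _ h => enc.injective (Fin.ext h)) (fun i hi => ?_)
  · simp only [List.mem_toFinset, List.mem_filter, List.mem_range, beq_iff_eq]
    exact ⟨(enc p).isLt, by rw [ha p, (Finset.mem_filter.1 hp).2]⟩
  · simp only [List.mem_toFinset, List.mem_filter, List.mem_range, beq_iff_eq] at hi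
    refine ⟨enc.symm ⟨i, hi.1⟩, Finset.mem_filter.2 ⟨Finset.mem_univ _, ?_⟩, by
      rw [Equiv.apply_symm_apply]⟩
    refine ha.apply_eq enc ?_
    rw [Equiv.apply_symm_apply]
    exact hi.2

theorem zTab_iff : zTab a = true ↔ σ * σ = 1 ∧ fixCount σ.1 = 8 := by
  rw [zTab, Bool.and_eq_true, sqOne_iff ha, fixLength ha, beq_iff_eq]

include hb

theorem sameTab_iff : sameTab a b = true ↔ σ = τ := by
  simp only [sameTab, allBelow_iff, beq_iff_eq]
  constructor
  · intro h
    refine Subtype.ext (Equiv.ext fun p => enc.injective (Fin.ext ?_))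
    have := h _ (enc p).isLt
    rwa [ha p, hb p] at this
  · rintro rfl i hi
    obtain ⟨p, rfl⟩ : ∃ p, (enc p).val = i := ⟨enc.symm ⟨i, hi⟩, by rw [Equiv.apply_symm_apply]⟩
    rw [ha p, hb p]

theorem comTab_iff : comTab a b = true ↔ Commute σ τ :=
  ⟨fun h => Subtype.ext (commTab_sound ha hb h),
    fun h => commTab_complete ha hb (congrArg Subtype.val h)⟩

end

/-- The involution of the top node. -/
noncomputable def free : ↥M24 := ⟨inv2Free, inv2Free_mem⟩

theorem pow_card_of_commute {σ : ↥M24} (h : Commute σ free) : σ ^ 7680 = 1 := by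
  let C : Subgroup ↥M24 := Subgroup.centralizer {free}
  have hC : Nat.card C = 7680 := by
    rw [← card_cen2]
    refine Nat.card_congr
      { toFun := fun c => ⟨c.1.1, c.1.2, congrArg Subtype.val
          (Subgroup.mem_centralizer_singleton_iff.1 c.2)⟩
        invFun := fun c => ⟨⟨c.1, c.2.1⟩,
          Subgroup.mem_centralizer_singleton_iff.2 (Subtype.ext c.2.2)⟩
        left_inv := fun _ => rfl
        right_inv := fun _ => rfl }
  have hm : σ ∈ C := Subgroup.mem_centralizer_singleton_iff.2 h.eq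
  have := congrArg Subtype.val (pow_card_eq_one' (x := (⟨σ, hm⟩ : C)))
  rwa [hC] at this

theorem candLoop_of {E : List ℕ} {υ : ↥M24} {u : ℕ} (hu : Rep enc υ.1 u) :
    ∀ (n : ℕ) {q : ℕ} {σ : ↥M24}, Rep enc σ.1 q → ∀ {e : ℕ} {k : ℕ}, k < n → e ∈ E →
      Rep enc (σ ^ 2 ^ k).1 e → (υ * σ ^ 2 ^ k) * (υ * σ ^ 2 ^ k) = 1 →
        fixCount (υ * σ ^ 2 ^ k).1 = 8 → candLoop E u n q = true
  | 0, _, _, _, _, k, hk, _, _, _, _ => absurd hk (Nat.not_lt_zero k)
  | n + 1, q, σ, hq, e, k, hk, he, re, h1, h8 => by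
    rw [candLoop, Bool.or_eq_true, Bool.and_eq_true]
    cases k with
    | zero =>
      rw [pow_zero, pow_one] at re h1 h8
      exact Or.inl ⟨List.any_eq_true.2 ⟨e, he, (sameTab_iff hq re).2 rfl⟩,
        (zTab_iff (rep_comp' hu hq)).2 ⟨h1, h8⟩⟩
    | succ k =>
      have hp : σ ^ 2 ^ (k + 1) = (σ * σ) ^ 2 ^ k := by
        rw [← pow_two, ← pow_mul, pow_succ, mul_comm]
      rw [hp] at re h1 h8
      exact Or.inr (candLoop_of hu n (rep_comp' hq hq) (Nat.lt_of_succ_lt_succ hk) he re h1 h8)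

end CfsgLib.InvolEndgame.MTwentyFour
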