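import Cfsg.Agent.InvolEndgame.MTwentyFourChecks
import Cfsg.Agent.InvolEndgame.MTwentyFourSound
import Cfsg.Agent.SEmbed.Cosets
import Cfsg.Agent.S0223

/-!
A subgroup isomorphic to M24 that contains the centraliser of its involutions with eight fixed
points, and controls their fusion, is the whole group.
-/

set_option autoImplicit false
set_option maxRecDepth 20000

namespace CfsgLib.InvolEndgame.MTwentyFour

open Cfsg CfsgLib.Mathieu CfsgLib.M24Classes

variable {G : Type*} [Group G] [Finite G] {f : ↥M24 →* G} {Z : Set G}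

/-- The set named by a list of tables. -/
def eSet (f : ↥M24 →* G) (E : List ℕ) : Set G := (fun e => f (elM e)) '' {e | e ∈ E}

/-- The invariant of a node. -/
structure Node (E Zk I : List ℕ) : Prop where
  mem : ∀ e ∈ E, InGroup enc M24 e
  base : ∃ e ∈ E, elM e = free
  compl : ∀ σ : ↥M24, σ * σ = 1 → σ ≠ 1 → (∀ e ∈ E, Commute σ (elM e)) →
    ∃ c ∈ I, Rep enc σ.1 c
  zcompl : ∀ σ : ↥M24, σ * σ = 1 → fixCount σ.1 = 8 → (∀ e ∈ E, Commute σ (elM e)) →
    ∃ c ∈ Zk, Rep enc σ.1 c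

theorem Node.ext {E Zk I : List ℕ} (hN : Node E Zk I) {c : ℕ} {σ : ↥M24}
    (hc : Rep enc σ.1 c) :
    Node (extSet E c) (Zk.filter (comTab c)) (I.filter (comTab c)) where
  mem e he := by
    simp only [extSet, List.mem_append, List.mem_cons, List.mem_map] at he
    rcases he with he | rfl | ⟨e', he', rfl⟩
    · exact hN.mem e he
    · exact inGroup_of_rep hc
    · exact inGroup_of_rep (rep_comp' (elM_rep (hN.mem e' he')) hc)
  base := by
    obtain ⟨e, he, h⟩ := hN.base
    exact ⟨e, List.mem_append_left _ he, h⟩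
  compl τ h2 h1 hτ := by
    obtain ⟨d, hd, rd⟩ := hN.compl τ h2 h1 fun e he => hτ e (List.mem_append_left _ he)
    refine ⟨d, List.mem_filter.2 ⟨hd, (comTab_iff hc rd).2 ?_⟩, rd⟩
    have := hτ c (List.mem_append_right _ (List.mem_cons_self ..))
    rw [elM_eq hc] at this
    exact this.symm
  zcompl τ h2 h8 hτ := by
    obtain ⟨d, hd, rd⟩ := hN.zcompl τ h2 h8 fun e he => hτ e (List.mem_append_left _ he)
    refine ⟨d, List.mem_filter.2 ⟨hd, (comTab_iff hc rd).2 ?_⟩, rd⟩
    have := hτ c (List.mem_append_right _ (List.mem_cons_self ..))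
    rw [elM_eq hc] at this
    exact this.symm

/-- The list of involutions commuting with the involution is complete. -/
theorem invol_mem (σ : ↥M24) (h2 : σ * σ = 1) (h1 : σ ≠ 1) (hc : Commute σ free) :
    ∃ c ∈ centInvols, Rep enc σ.1 c := by
  have hcomm : σ.1 * inv2Free = inv2Free * σ.1 := congrArg Subtype.val hc.eq
  set q := σ.1 (pt 0) with hq
  obtain ⟨u, hu, ru, hcu, hu0⟩ := cen2_mover q
  obtain ⟨h, hh, rh⟩ := cen2_stab (c := u⁻¹ * σ.1) (mul_mem (inv_mem hu) σ.2)
    ((Commute.inv_left hcu).mul_left hcomm)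
    (by rw [Equiv.Perm.mul_apply, ← hq, Equiv.Perm.inv_eq_iff_eq, hu0])
  have rc : Rep enc σ.1 (comp (cen2Trans.getD (idx q) 0) h) := by
    have := rep_comp ru rh
    rwa [mul_inv_cancel_left] at this
  refine ⟨_, ?_, rc⟩
  have hall := allBelow_iff.1 centInvols_complete (idx q) (idx_lt q)
  have h' := List.all_eq_true.1 hall h hh
  simp only [Bool.or_eq_true, Bool.not_eq_true', Bool.eq_false_iff, List.contains_iff_mem] at h'
  rcases h' with (h' | h') | h'
  · refine absurd ?_ h'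
    have hs := allBelow_iff.1 ((sqOne_iff (σ := σ) rc).2 h2)
    rw [allBelow_iff]
    intro i hi
    have hh1 := hs i hi
    rw [app_comp _ _ i hi, app_comp] at hh1
    · exact hh1
    · have r := rc (enc.symm ⟨i, hi⟩)
      rw [Equiv.apply_symm_apply] at r
      change app _ i = _ at r
      rw [app_comp _ _ i hi] at r
      rw [r]; exact (enc _).isLt
  · refine absurd (Subtype.ext (Equiv.ext fun p => enc.injective (Fin.ext ?_))) h1
    have hh1 := allBelow_iff.1 h' _ (enc p).isLt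
    rw [beq_iff_eq] at hh1
    have r := rc p
    rw [app_comp _ _ _ (enc p).isLt, hh1] at r
    exact r.symm
  · exact h'

omit [Finite G] in
theorem commute_of_map (hf : Function.Injective f) {σ τ : ↥M24} (h : Commute (f σ) (f τ)) :
    Commute σ τ :=
  hf (by rw [map_mul, map_mul, h.eq])

variable (S : Setting f.range Z) (hf : Function.Injective f)
  (hZ : ∀ σ : ↥M24, f σ ∈ Z ↔ σ * σ = 1 ∧ fixCount σ.1 = 8)
include S hf hZ

theorem pinned_of_check : ∀ (n : ℕ) (T : Cert) (E Zk I : List ℕ), Node E Zk I →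
    checkCert n T E Zk I = true → Pinned f.range (eSet f E)
  | n, .leaf, E, Zk, I, hN, h => by
    unfold checkCert at h
    obtain ⟨e, he, hz⟩ := List.any_eq_true.1 h
    exact S.pinned_of_mem (x := f (elM e)) (fun g hg => hg _ ⟨e, he, rfl⟩)
      ((hZ _).2 ((zTab_iff (elM_rep (hN.mem e he))).1 hz)) ⟨_, rfl⟩
  | 0, .node _ _ _ _, _, _, _, _, h => by simp [checkCert] at h
  | n + 1, .node u₁ u₂ k₁ k₂, E, Zk, I, hN, h => by
    simp only [checkCert, Bool.and_eq_true, List.all_eq_true, beq_iff_eq] at h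
    obtain ⟨⟨⟨⟨⟨⟨hb₁, hb₂⟩, hd⟩, hl₁⟩, hl₂⟩, hk₁⟩, hk₂⟩ := h
    have branch : ∀ {u : ℕ}, okBranch E u = true →
        Rep enc (elM u).1 u ∧ f (elM u) ∈ Z ∧ ∀ e ∈ eSet f E, Commute (f (elM u)) e := by
      intro u hu
      simp only [okBranch, Bool.and_eq_true, List.all_eq_true] at hu
      have r := elM_rep (inGroup_of_isM24Tab hu.1.1)
      refine ⟨r, (hZ _).2 ((zTab_iff r).1 hu.1.2), ?_⟩
      rintro _ ⟨e, he, rfl⟩
      exact ((comTab_iff r (elM_rep (hN.mem e he))).1 (hu.2 e he)).map f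
    obtain ⟨r₁, z₁, c₁⟩ := branch hb₁
    obtain ⟨r₂, z₂, c₂⟩ := branch hb₂
    have kids : ∀ {u : ℕ} {ks : List Cert}, Rep enc (elM u).1 u → (extList E I u).length = ks.length →
        (∀ p ∈ (extList E I u).zip ks, checkCert n p.2 (extSet E p.1) (Zk.filter (comTab p.1))
          (I.filter (comTab p.1)) = true) →
        ∀ w ∈ f.range, w * w = 1 → w ≠ 1 → Commute w (f (elM u)) →
          (∀ e ∈ eSet f E, Commute w e) → f (elM u) * w ∈ Z → w ∉ eSet f E →
            Pinned f.range (insert w (eSet f E)) := by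
      rintro u ks ru hl hk _ ⟨σ, rfl⟩ h2 h1 hwu hwE huw hne
      have s2 : σ * σ = 1 := hf (by rw [map_mul, map_one]; exact h2)
      have s1 : σ ≠ 1 := fun e => h1 (by rw [e, map_one])
      have sE : ∀ e ∈ E, Commute σ (elM e) := fun e he =>
        commute_of_map hf (hwE _ ⟨e, he, rfl⟩)
      obtain ⟨c, hcI, rc⟩ := hN.compl σ s2 s1 sE
      have hc : c ∈ extList E I u := by
        refine List.mem_filter.2 ⟨hcI, ?_⟩
        simp only [Bool.and_eq_true, Bool.not_eq_true']
        refine ⟨⟨(comTab_iff rc ru).2 (commute_of_map hf hwu),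
          (zTab_iff (rep_comp' ru rc)).2 ((hZ _).1 (by rw [map_mul]; exact huw))⟩, ?_⟩
        rw [Bool.eq_false_iff]
        intro hs
        obtain ⟨e, he, hse⟩ := List.any_eq_true.1 hs
        exact hne ⟨e, he, by rw [(sameTab_iff rc (elM_rep (hN.mem e he))).1 hse]⟩
      obtain ⟨i, hi, rfl⟩ := List.getElem_of_mem hc
      have := pinned_of_check n _ _ _ _ (hN.ext rc)
        (by
          have h := hk _ (List.getElem_mem (by rw [List.length_zip]; omega :
            i < ((extList E I u).zip ks).length))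
          rw [List.getElem_zip] at h
          exact h)
      intro g hg
      refine this g ?_
      rintro _ ⟨e, he, rfl⟩
      simp only [extSet, Set.mem_ofPred_eq, List.mem_append, List.mem_cons, List.mem_map] at he
      have hgw : Commute g (f σ) := hg _ (Set.mem_insert _ _)
      rcases he with he | rfl | ⟨e', he', rfl⟩
      · exact hg _ (Set.mem_insert_of_mem _ ⟨e, he, rfl⟩)
      · show Commute g (f (elM _))
        rw [elM_eq rc]; exact hgw
      · show Commute g (f (elM _))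
        rw [elM_eq (rep_comp' (elM_rep (hN.mem e' he')) rc), map_mul]
        exact (hg _ (Set.mem_insert_of_mem _ ⟨e', he', rfl⟩)).mul_right hgw
    refine S.pinned_of_pair z₁ ⟨_, rfl⟩ c₁ z₂ ⟨_, rfl⟩ c₂ (kids r₁ hl₁ hk₁) (kids r₂ hl₂ hk₂) ?_
    intro y₁ y₂ hy₁ hy₂ g ⟨γ, hγ⟩ hgE hconj
    have side : ∀ {u : ℕ} {y : G}, Rep enc (elM u).1 u → f (elM u) ∈ Z →
        (∀ e ∈ eSet f E, Commute (f (elM u)) e) →
        Setting.Cand f.range Z (eSet f E) (f (elM u)) y →
        ∃ (σ : ↥M24) (c : ℕ), f σ = y ∧ Rep enc σ.1 c ∧ zMask E c ∈ sideMasks E Zk u := by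
      intro u y ru zu cu hy
      rcases hy with rfl | ⟨hyZ, ⟨σ, rfl⟩, hyE, k, hk1, ⟨e, he, hek⟩, hk0, hkZ⟩
      · exact ⟨_, u, rfl, ru, List.mem_cons_self ..⟩
      obtain ⟨s2, s8⟩ := (hZ σ).1 hyZ
      have sE : ∀ e ∈ E, Commute σ (elM e) := fun e he =>
        commute_of_map hf (hyE _ ⟨e, he, rfl⟩)
      obtain ⟨c, hc, rc⟩ := hN.zcompl σ s2 s8 sE
      refine ⟨σ, c, rfl, rc, List.mem_cons_of_mem _ (List.mem_map.2 ⟨c, List.mem_filter.2 ⟨hc, ?_⟩, rfl⟩)⟩
      rw [← map_mul, ← map_pow] at hk1 hk0 hkZ hek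
      rw [← map_mul] at hkZ
      have p1 : (elM u * σ) ^ 2 ^ (k + 1) = 1 := hf (by rw [hk1, map_one])
      have p0 : (elM u * σ) ^ 2 ^ k ≠ 1 := fun h => hk0 (by rw [h, map_one])
      have hk : k < 10 := by
        by_contra hk
        obtain ⟨b, hb, hbu⟩ := hN.base
        have hcom : Commute (elM u * σ) free := by
          rw [← hbu]
          exact (commute_of_map hf (cu _ ⟨b, hb, rfl⟩)).mul_left (sE b hb)
        have hdvd : orderOf (elM u * σ) ∣ 2 ^ 9 := by
          have h1 := orderOf_dvd_of_pow_eq_one p1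
          have h2 := orderOf_dvd_of_pow_eq_one (pow_card_of_commute hcom)
          obtain ⟨j, hj, he⟩ := (Nat.dvd_prime_pow Nat.prime_two).1 h1
          rw [he] at h2 ⊢
          have hc : Nat.Coprime (2 ^ j) 15 := Nat.Coprime.pow_left _ (by norm_num)
          exact hc.dvd_of_dvd_mul_right (show 2 ^ j ∣ 2 ^ 9 * 15 by norm_num; exact h2)
        exact p0 (orderOf_dvd_iff_pow_eq_one.1
          (hdvd.trans (pow_dvd_pow 2 (by omega))))
      obtain ⟨q1, q8⟩ := (hZ _).1 hkZ
      have hek' : elM e = (elM u * σ) ^ 2 ^ k := hf hek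
      exact candLoop_of ru 10 (rep_comp' ru rc) hk he (hek' ▸ elM_rep (hN.mem e he)) q1 q8
    obtain ⟨σ₁, d₁, e₁, rd₁, m₁⟩ := side r₁ z₁ c₁ hy₁
    obtain ⟨σ₂, d₂, e₂, rd₂, m₂⟩ := side r₂ z₂ c₂ hy₂
    have hmask : zMask E d₁ = zMask E d₂ := by
      refine List.map_congr_left fun e he => ?_
      have re := elM_rep (hN.mem e he)
      rw [Bool.eq_iff_iff, zTab_iff (rep_comp' rd₁ re), zTab_iff (rep_comp' rd₂ re), ← hZ, ← hZ,
        map_mul, map_mul, e₁, e₂]
      have hge : g * (y₁ * f (elM e)) * g⁻¹ = y₂ * f (elM e) := by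
        have := (hgE _ ⟨e, he, rfl⟩).eq
        rw [← hconj]
        calc g * (y₁ * f (elM e)) * g⁻¹ = g * y₁ * g⁻¹ * (g * f (elM e) * g⁻¹) := by group
          _ = _ := by rw [this, mul_inv_cancel_right]
      constructor
      · exact fun h => hge ▸ S.conj_mem _ h g
      · intro h
        have := S.conj_mem _ h g⁻¹
        rw [← hge] at this
        simpa [mul_assoc] using this
    have := hd _ m₁
    rw [hmask] at this
    simp only [Bool.not_eq_true', Bool.eq_false_iff, ne_eq, List.contains_iff_mem] at this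
    exact this m₂

omit S hf hZ [Finite G] in
theorem node_top : Node [tab2Free] (centInvols.filter zTab) centInvols where
  mem e he := by
    rw [List.mem_singleton.1 he]
    exact inGroup_of_rep (σ := free) inv2Free_rep
  base := ⟨_, List.mem_singleton.2 rfl, elM_eq (σ := free) inv2Free_rep⟩
  compl σ h2 h1 hσ := invol_mem σ h2 h1 (by
    have := hσ _ (List.mem_singleton.2 rfl)
    rwa [elM_eq (σ := free) inv2Free_rep] at this)
  zcompl σ h2 h8 hσ := by
    have h1 : σ ≠ 1 := by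
      rintro rfl
      rw [fixCount, Finset.filter_true_of_mem (fun p _ => by simp), Finset.card_univ,
        card_golayPt] at h8
      norm_num at h8
    obtain ⟨c, hc, rc⟩ := invol_mem σ h2 h1 (by
      have := hσ _ (List.mem_singleton.2 rfl)
      rwa [elM_eq (σ := free) inv2Free_rep] at this)
    exact ⟨c, List.mem_filter.2 ⟨hc, (zTab_iff rc).2 ⟨h2, h8⟩⟩, rc⟩

/-- The centraliser of a fixed-point-free involution lies in the subgroup. -/
theorem mem_range_of_commute_free {g : G} (hg : Commute g (f free)) : g ∈ f.range := by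
  refine pinned_of_check S hf hZ 4 freeCert _ _ _ node_top freeCert_ok g ?_
  rintro _ ⟨e, he, rfl⟩
  show Commute g (f (elM e))
  rw [List.mem_singleton.1 he, elM_eq (σ := free) inv2Free_rep]
  exact hg

omit S hf hZ [Finite G] in
theorem orderOf_two_iff {x : G} : orderOf x = 2 ↔ x * x = 1 ∧ x ≠ 1 := by
  rw [← pow_two]; exact orderOf_eq_prime_iff

omit S hZ [Finite G] in
theorem orderOf_map {σ : ↥M24} (h : orderOf (f σ) = 2) : orderOf σ.1 = 2 := by
  rwa [orderOf_injective f hf, ← Subgroup.orderOf_coe] at h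

/-- Every centraliser of an involution of the subgroup lies in it. -/
theorem centralizer_le {t : G} (ht : t ∈ f.range) (ho : orderOf t = 2) :
    Subgroup.centralizer ({t} : Set G) ≤ f.range := by
  obtain ⟨σ, rfl⟩ := ht
  intro g hg
  have hg' : Commute g (f σ) := Subgroup.mem_centralizer_singleton_iff.1 hg
  have hσ := orderOf_map hf ho
  rcases conj_inv2_of_fix σ.2 hσ with ⟨-, h, hh, he⟩ | ⟨h8, -⟩
  · set κ : ↥M24 := ⟨h, hh⟩
    have hk : f κ * f free * (f κ)⁻¹ = f σ := by
      rw [← map_inv, ← map_mul, ← map_mul]; exact congrArg f (Subtype.ext he)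
    have : Commute ((f κ)⁻¹ * g * f κ) (f free) := by
      have h1 : f free = (f κ)⁻¹ * f σ * f κ := by rw [← hk]; group
      rw [h1]
      show _ = _
      calc (f κ)⁻¹ * g * f κ * ((f κ)⁻¹ * f σ * f κ) = (f κ)⁻¹ * (g * f σ) * f κ := by group
        _ = (f κ)⁻¹ * (f σ * g) * f κ := by rw [hg'.eq]
        _ = _ := by group
    have hm := mem_range_of_commute_free S hf hZ this
    have := mul_mem (mul_mem (⟨κ, rfl⟩ : f κ ∈ f.range) hm) (inv_mem ⟨κ, rfl⟩)
    simpa [mul_assoc] using this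
  · exact S.mem_of_commute ((hZ σ).2 ⟨(orderOf_two_iff.1 (by
      rw [← Subgroup.orderOf_coe]; exact hσ)).1, h8⟩) ⟨σ, rfl⟩ hg'

/-- The subgroup is the whole group. -/
theorem range_eq_top : f.range = ⊤ := by
  by_contra hne
  have hfree : orderOf (f free) = 2 := by
    rw [orderOf_injective f hf, ← Subgroup.orderOf_coe]; exact orderOf_reps.1
  let oct : ↥M24 := ⟨inv2Oct, inv2Oct_mem⟩
  have hoct : orderOf (f oct) = 2 := by
    rw [orderOf_injective f hf, ← Subgroup.orderOf_coe]; exact orderOf_reps.2.1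
  have hoctZ : f oct ∈ Z := (hZ oct).2 ⟨(orderOf_two_iff.1 (by
    rw [← Subgroup.orderOf_coe]; exact orderOf_reps.2.1)).1, fixCount_reps.2.1⟩
  have hfreeZ : f free ∉ Z := fun h => by
    have := ((hZ free).1 h).2
    rw [show fixCount free.1 = 0 from fixCount_reps.1] at this
    norm_num at this
  have heven : Even (Nat.card f.range) := by
    rw [even_iff_two_dvd, ← hfree]
    exact Subgroup.orderOf_dvd_natCard _ ⟨free, rfl⟩
  -- the members of the class outside `Z` are fused inside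
  have fusion : ∀ t ∈ f.range, ∀ s ∈ f.range, orderOf t = 2 → orderOf s = 2 → IsConj t s →
      ∃ h ∈ f.range, h * t * h⁻¹ = s := by
    rintro _ ⟨σ, rfl⟩ _ ⟨τ, rfl⟩ hs ht hst
    obtain ⟨g, hg⟩ := isConj_iff.1 hst
    by_cases hzσ : f σ ∈ Z
    · exact ⟨g, S.mem_of_conj _ hzσ ⟨σ, rfl⟩ g (hg ▸ ⟨τ, rfl⟩), hg⟩
    have hzτ : f τ ∉ Z := fun h => hzσ (by
      have := S.conj_mem _ h g⁻¹
      rw [← hg] at this
      simpa [mul_assoc] using this)
    have free_conj : ∀ {ρ : ↥M24}, orderOf (f ρ) = 2 → f ρ ∉ Z →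
        ∃ κ : ↥M24, κ * free * κ⁻¹ = ρ := by
      intro ρ ho hz
      have hρ := orderOf_map hf ho
      rcases conj_inv2_of_fix ρ.2 hρ with ⟨-, h, hh, he⟩ | ⟨h8, -⟩
      · exact ⟨⟨h, hh⟩, Subtype.ext he⟩
      · exact absurd ((hZ ρ).2 ⟨(orderOf_two_iff.1 (by
          rw [← Subgroup.orderOf_coe]; exact hρ)).1, h8⟩) hz
    obtain ⟨κ₁, e₁⟩ := free_conj hs hzσ
    obtain ⟨κ₂, e₂⟩ := free_conj ht hzτ
    refine ⟨f (κ₂ * κ₁⁻¹), ⟨_, rfl⟩, ?_⟩
    rw [← map_inv, ← map_mul, ← map_mul, ← e₁, ← e₂]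
    congr 1
    group
  have hse : Cfsg.IsStronglyEmbedded f.range :=
    (Cfsg.Agent.S0223.result f.range hne heven).2
      ⟨fun t ht ho => centralizer_le S hf hZ ht ho, fusion⟩
  have := CfsgLib.SEmbed.nontrivial_cosets hse
  obtain ⟨c, hc⟩ := isConj_iff.1
    (CfsgLib.SEmbed.isConj_invol (CfsgLib.SEmbed.uniqueFix hse) hoct hfree)
  exact hfreeZ (hc ▸ S.conj_mem _ hoctZ c)

end CfsgLib.InvolEndgame.MTwentyFour
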