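import Cfsg.Agent.InvolEndgame.MTwentyFourData
import Cfsg.Agent.M24Classes.CentData

/-!
The kernel checks of the descent.
-/

set_option autoImplicit false

namespace CfsgLib.InvolEndgame.MTwentyFour

open CfsgLib.Mathieu CfsgLib.M24Classes

theorem centInvols_complete :
    (allBelow 24 fun q => cen2Tabs.all fun h =>
      !(allBelow 24 fun i => app (cen2Trans.getD q 0) (app h (app (cen2Trans.getD q 0) (app h i))) == i) ||
        (allBelow 24 fun i => app (cen2Trans.getD q 0) (app h i) == i) ||
          centInvols.contains (comp (cen2Trans.getD q 0) h)) = true := by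
  decide +kernel

theorem freeCert_ok :
    checkCert 4 freeCert [tab2Free] (centInvols.filter zTab) centInvols = true := by
  decide +kernel

end CfsgLib.InvolEndgame.MTwentyFour
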